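import Cfsg.Agent.H101.ROSUnip
import Cfsg.Agent.H453.OddM.Defs

/-!
# Real unipotent elements of `SU_n(q)` with Jordan type `(k, 1, …, 1)`, `k` odd
-/

set_option autoImplicit false
set_option linter.unusedSectionVars false

namespace Cfsg.Agent.H260.OddM

open Module Cfsg
open Cfsg.Agent.LieClassical.HermBasic Cfsg.Agent.LieClassical.SUBasic
open Cfsg.Agent.H101.RO Cfsg.Agent.H453.OddM

/-- transport of isometries of a Hermitian space -/
theorem exists_su_basis {F : Type*} [Field F] [Fintype F] {q n : ℕ} (hF : Fintype.card F = q ^ 2) (hn : 1 ≤ n)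
    {V : Type*} [AddCommGroup V] [Module F V]
    (hfin : finrank F V = n) (S : V →ₛₗ[(conj hF).toRingHom] V →ₗ[F] F) (hS : S.IsSymm) (hnd : S.SeparatingLeft) :
    ∃ b : Basis (Fin n) F V, ∀ (T : Module.End F V) (h : LinearMap.det T = 1), (∀ u v, S (T u) (T v) = S u v) →
      slOf b T h ∈ SU n F q := by
  haveI : FiniteDimensional F V := FiniteDimensional.of_finrank_pos (by omega)
  obtain ⟨b', hb'⟩ := Cfsg.Agent.ClassicalGeometry.HermOrthonormal.exists_orthonormal_basis (conj_ne_id hF)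
    (fun a => pow_q_pow_q hF a) S hS hnd
  let b : Basis (Fin n) F V := b'.reindex (finCongr hfin)
  have hb : ∀ i j, S (b i) (b j) = if i = j then 1 else 0 := by
    intro i j
    rw [Basis.reindex_apply, Basis.reindex_apply, hb']
    simp only [EmbeddingLike.apply_eq_iff_eq]
  refine ⟨b, fun T h hT => ?_⟩
  have hmv : ∀ (u : Fin n → F),
      b.equivFun.symm (((slOf b T h : Matrix.SpecialLinearGroup (Fin n) F) : Matrix (Fin n) (Fin n) F).mulVec u) =
        T (b.equivFun.symm u) := by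
    intro u
    show b.equivFun.symm ((LinearMap.toMatrix b b T).mulVec u) = _
    rw [LinearEquiv.symm_apply_eq]
    have h2 := LinearMap.toMatrix_mulVec_repr b b T (b.equivFun.symm u)
    have h3 : (b.repr (b.equivFun.symm u) : Fin n → F) = u := b.equivFun.apply_symm_apply u
    rw [h3] at h2
    exact h2
  rw [Cfsg.Agent.LieClassical.HermBasic.mem_SU_iff]
  intro u v
  rw [herm_eq hF S b hb, herm_eq hF S b hb, hmv, hmv, hT]

theorem exists_real_su {F : Type*} [Field F] [Fintype F] {q n : ℕ} (hF : Fintype.card F = q ^ 2) (hn : 1 ≤ n)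
    {V : Type*} [AddCommGroup V] [Module F V]
    (hfin : finrank F V = n) (S : V →ₛₗ[(conj hF).toRingHom] V →ₗ[F] F) (hS : S.IsSymm) (hnd : S.SeparatingLeft)
    {x y : Module.End F V} (hx : ∀ u v, S (x u) (x v) = S u v) (hy : ∀ u v, S (y u) (y v) = S u v)
    (hdx : LinearMap.det x = 1) (hdy : LinearMap.det y = 1) (hxy : x * y * x = y) :
    ∃ (b : Basis (Fin n) F V) (X : SU n F q), IsReal X ∧
      ((X : Matrix.SpecialLinearGroup (Fin n) F) : Matrix (Fin n) (Fin n) F) = LinearMap.toMatrix b b x := by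
  obtain ⟨b, hb⟩ := exists_su_basis hF hn hfin S hS hnd
  refine ⟨b, ⟨slOf b x hdx, hb x hdx hx⟩, ⟨⟨slOf b y hdy, hb y hdy hy⟩, ?_⟩, rfl⟩
  have h : (⟨slOf b x hdx, hb x hdx hx⟩ : SU n F q) * ⟨slOf b y hdy, hb y hdy hy⟩ * ⟨slOf b x hdx, hb x hdx hx⟩ =
      ⟨slOf b y hdy, hb y hdy hy⟩ := by
    apply Subtype.ext
    apply endOf_injective b
    change endOf b (slOf b x hdx * slOf b y hdy * slOf b x hdx) = endOf b (slOf b y hdy)
    rw [endOf_mul, endOf_mul, endOf_slOf, endOf_slOf, hxy]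
  generalize (⟨slOf b x hdx, hb x hdx hx⟩ : SU n F q) = X at h ⊢
  generalize (⟨slOf b y hdy, hb y hdy hy⟩ : SU n F q) = Y at h ⊢
  rw [mul_inv_eq_iff_eq_mul, eq_inv_mul_iff_mul_eq, ← mul_assoc]
  exact h

theorem lam_sub_one (F : Type*) [Field F] (k : ℕ) : Tr.lam F k - 1 = Tr.r F k * (2 * Tr.w F k) := by
  have h := Tr.w_mul F k
  rw [Tr.lam]
  linear_combination h

theorem isUnit_two_w (F : Type*) [Field F] (k : ℕ) (h2 : (2 : F) ≠ 0) : IsUnit (2 * Tr.w F k) := by
  have h3 : (2 : Tr F k) = algebraMap F (Tr F k) 2 := by rw [map_ofNat]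
  rw [h3]
  refine IsUnit.mul (h2.isUnit.map _) ?_
  exact IsUnit.of_mul_eq_one (1 - Tr.r F k) (by rw [mul_comm]; exact Tr.w_mul F k)

theorem r_pow_ne (F : Type*) [Field F] (k : ℕ) (hk : 1 ≤ k) : Tr.r F k ^ (k - 1) ≠ 0 := by
  have h := (Tr.basis F k).ne_zero ⟨k - 1, by omega⟩
  haveI := Tr.nontrivial F k (by omega)
  rwa [Tr.basis_apply] at h

theorem r_mul_pow (F : Type*) [Field F] (k : ℕ) (hk : 1 ≤ k) (a : Tr F k) :
    ∃ t : F, Tr.r F k ^ (k - 1) * a = t • Tr.r F k ^ (k - 1) := by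
  obtain ⟨t, c, rfl⟩ := Tr.exists_eq F k a
  refine ⟨t, ?_⟩
  have h : Tr.r F k ^ (k - 1) * (Tr.r F k * c) = 0 := by
    rw [← mul_assoc, ← pow_succ, Nat.sub_add_cancel hk, Tr.r_pow, zero_mul]
  rw [mul_add, h, add_zero, Algebra.smul_def, mul_comm]

/-- multiplication by `(lam - 1) ^ (k - 1)` has rank one -/
theorem finrank_range_lam (F : Type*) [Field F] (k : ℕ) (hk : 1 ≤ k) (h2 : (2 : F) ≠ 0) :
    LinearMap.range (LinearMap.mulLeft F ((Tr.lam F k - 1) ^ (k - 1))) = F ∙ (Tr.r F k ^ (k - 1)) := by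
  obtain ⟨u, hu⟩ := (isUnit_two_w F k h2).pow (k - 1)
  apply le_antisymm
  · rintro _ ⟨a, rfl⟩
    rw [LinearMap.mulLeft_apply, lam_sub_one, mul_pow, mul_assoc]
    obtain ⟨t, ht⟩ := r_mul_pow F k hk ((2 * Tr.w F k) ^ (k - 1) * a)
    rw [ht]
    exact Submodule.smul_mem _ _ (Submodule.mem_span_singleton_self _)
  · rw [Submodule.span_singleton_le_iff_mem]
    refine ⟨((u⁻¹ : (Tr F k)ˣ) : Tr F k), ?_⟩
    rw [LinearMap.mulLeft_apply, lam_sub_one, mul_pow, mul_assoc, ← hu, Units.mul_inv, mul_one]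

theorem exists_unip {F : Type*} [Field F] [Fintype F] {q n : ℕ} (hF : Fintype.card F = q ^ 2) (h2 : (2 : F) ≠ 0)
    {k : ℕ} (hk : Odd k) (hk3 : 3 ≤ k) (hkn : k ≤ n) :
    ∃ X : SU n F q, IsReal X ∧
      (((X : Matrix.SpecialLinearGroup (Fin n) F) : Matrix (Fin n) (Fin n) F) - 1) ^ k = 0 ∧
      ((((X : Matrix.SpecialLinearGroup (Fin n) F) : Matrix (Fin n) (Fin n) F) - 1) ^ (k - 1)).rank = 1 := by
  have hk0 : 0 < k := by omega
  obtain ⟨p, hpc⟩ := CharP.exists F
  have hp : p.Prime := CharP.char_is_prime F p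
  have hp2 : p ≠ 2 := by
    rintro rfl
    exact h2 (CharP.cast_eq_zero F 2)
  have hev : Even (k - 1) := by obtain ⟨c, hc⟩ := hk; exact ⟨c, by omega⟩
  let l := Tr.l F k hk0
  have hlJ : ∀ a, l (Tr.J hF k a) = l a ^ q := by
    intro a
    show Tr.l F k hk0 (Tr.J hF k a) = _
    rw [Tr.l_J, hev.neg_one_pow, one_mul]
  have hlD : ∀ a, l (Tr.D F k a) = l a := by
    intro a
    show Tr.l F k hk0 (Tr.D F k a) = _
    rw [Tr.l_D, hev.neg_one_pow, one_mul]
  let W := Fin (n - k) → F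
  let S : (Tr F k × W) →ₛₗ[(conj hF).toRingHom] (Tr F k × W) →ₗ[F] F :=
    LinearMap.mk₂'ₛₗ (conj hF).toRingHom (RingHom.id F)
      (fun u v => l (v.1 * Tr.J hF k u.1) + hermForm (n - k) F q v.2 u.2)
      (fun u u' v => by
        rw [Prod.fst_add, Prod.snd_add, map_add, mul_add, map_add, herm_add_right hF]; ring)
      (fun c u v => by
        rw [Prod.smul_fst, Prod.smul_snd, Tr.J_smul, mul_smul_comm, map_smul, herm_smul_right]
        show _ = c ^ q • _
        rw [smul_eq_mul, smul_eq_mul]; ring)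
      (fun u v v' => by
        rw [Prod.fst_add, Prod.snd_add, add_mul, map_add, herm_add_left]; ring)
      (fun c u v => by
        rw [Prod.smul_fst, Prod.smul_snd, smul_mul_assoc, map_smul, herm_smul_left]
        show _ = c • _
        rw [smul_eq_mul, smul_eq_mul]; ring)
  have hSv : ∀ u v, S u v = l (v.1 * Tr.J hF k u.1) + hermForm (n - k) F q v.2 u.2 := fun _ _ => rfl
  have hS : S.IsSymm := ⟨fun u v => by
    show (S u v) ^ q = S v u
    rw [hSv, hSv, add_pow_q hF, ← hlJ, map_mul, Tr.J_J, mul_comm (Tr.J hF k v.1), ← herm_swap hF]⟩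
  have hsep : S.SeparatingLeft := by
    intro u hu
    have h1 : Tr.J hF k u.1 = 0 := Tr.l_nondeg F k hk0 fun v => by
      have := hu (v, 0)
      rw [hSv, herm_zero_left, add_zero] at this
      rw [mul_comm]; exact this
    have h3 : u.1 = 0 := by rw [← Tr.J_J hF k u.1, h1, map_zero]
    have h4 : u.2 = 0 := by
      apply herm_nondeg hF
      intro v
      have := hu (0, v)
      rw [hSv, zero_mul, map_zero, zero_add] at this
      exact herm_eq_zero_swap hF this
    exact Prod.ext h3 h4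
  -- the elements
  let ε : F := (-1) ^ (k / 2)
  have hε : ε * ε = 1 := by
    show (-1 : F) ^ (k / 2) * (-1) ^ (k / 2) = 1
    rw [← mul_pow, neg_one_mul, neg_neg, one_pow]
  have hεq : ε ^ q * ε = 1 := by
    have h1 : ε ^ q = ε := by
      show ((-1 : F) ^ (k / 2)) ^ q = (-1) ^ (k / 2)
      rw [← pow_mul, mul_comm, pow_mul, neg_pow_q hF, one_pow]
    rw [h1, hε]
  have hεk : ε ^ k = ε := by
    obtain ⟨c, hc⟩ := hk
    rw [hc, pow_succ, pow_mul, sq, hε, one_pow, one_mul]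
  let x : Module.End F (Tr F k × W) := (LinearMap.mulLeft F (Tr.lam F k)).prodMap LinearMap.id
  let y : Module.End F (Tr F k × W) := (ε • (Tr.D F k).toLinearMap).prodMap LinearMap.id
  have hxe : ∀ v, x v = (Tr.lam F k * v.1, v.2) := fun _ => rfl
  have hye : ∀ v, y v = (ε • Tr.D F k v.1, v.2) := fun _ => rfl
  have hdy : LinearMap.det y = 1 := by
    change LinearMap.det ((ε • (Tr.D F k).toLinearMap).prodMap (LinearMap.id : W →ₗ[F] W)) = 1
    rw [LinearMap.det_prodMap, LinearMap.det_id, mul_one, LinearMap.det_smul, Tr.finrank_eq, Tr.det_D, hεk]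
    exact hε
  have hxy : x * y * x = y := by
    apply LinearMap.ext
    intro v
    rw [Module.End.mul_apply, Module.End.mul_apply, hxe v, hye, hxe, hye]
    refine Prod.ext ?_ rfl
    show Tr.lam F k * (ε • Tr.D F k (Tr.lam F k * v.1)) = ε • Tr.D F k v.1
    rw [map_mul, mul_smul_comm, ← mul_assoc, Tr.lam_mul_D, one_mul]
  obtain ⟨j, hj, hord⟩ := Tr.exists_order_lam F k hp h2 (by omega : 2 ≤ k)
  have hpj : Odd (p ^ j) := (hp.odd_of_ne_two hp2).pow
  have hxpow : ∀ i : ℕ, x ^ i = (LinearMap.mulLeft F (Tr.lam F k ^ i)).prodMap LinearMap.id := by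
    intro i
    induction i with
    | zero =>
      apply LinearMap.ext
      intro v
      refine Prod.ext ?_ rfl
      show v.1 = Tr.lam F k ^ 0 * v.1
      rw [pow_zero, one_mul]
    | succ i ih =>
      rw [pow_succ', ih]
      apply LinearMap.ext
      intro v
      refine Prod.ext ?_ rfl
      show Tr.lam F k * (Tr.lam F k ^ i * v.1) = Tr.lam F k ^ (i + 1) * v.1
      rw [pow_succ', mul_assoc]
  have hx1 : x ^ (p ^ j) = 1 := by
    rw [hxpow, (hord _).2 dvd_rfl]
    apply LinearMap.ext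
    intro v
    refine Prod.ext ?_ rfl
    show 1 * v.1 = v.1
    rw [one_mul]
  have hdx : LinearMap.det x = 1 :=
    det_eq_one_of_inv (by rw [hdy]; exact one_ne_zero) hxy hpj hx1
  have hfin : finrank F (Tr F k × W) = n := by
    rw [Module.finrank_prod, Tr.finrank_eq, Module.finrank_fin_fun]
    omega
  have hxi : ∀ u v, S (x u) (x v) = S u v := by
    intro u v
    rw [hSv, hSv, hxe, hxe]
    congr 1
    show l (Tr.lam F k * v.1 * Tr.J hF k (Tr.lam F k * u.1)) = l (v.1 * Tr.J hF k u.1)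
    rw [map_mul (Tr.J hF k)]
    have h3 := Tr.lam_mul_of (Tr.J_r hF k)
    have : Tr.lam F k * v.1 * (Tr.J hF k (Tr.lam F k) * Tr.J hF k u.1) =
        (Tr.lam F k * Tr.J hF k (Tr.lam F k)) * (v.1 * Tr.J hF k u.1) := by ring
    rw [this, h3, one_mul]
  have hyi : ∀ u v, S (y u) (y v) = S u v := by
    intro u v
    rw [hSv, hSv, hye, hye]
    congr 1
    show l ((ε • Tr.D F k v.1) * Tr.J hF k (ε • Tr.D F k u.1)) = l (v.1 * Tr.J hF k u.1)
    have h1 : (ε • Tr.D F k v.1) * Tr.J hF k (ε • Tr.D F k u.1) = Tr.D F k (v.1 * Tr.J hF k u.1) := by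
      rw [Tr.J_smul, smul_mul_smul_comm, ← Tr.D_J, ← map_mul, mul_comm ε, hεq, one_smul]
    rw [h1, hlD]
  obtain ⟨b, X, hX, hXm⟩ := exists_real_su hF (by omega) hfin S hS hsep (x := x) (y := y) hxi hyi hdx hdy hxy
  have hsub : ((X : Matrix.SpecialLinearGroup (Fin n) F) : Matrix (Fin n) (Fin n) F) - 1 =
      LinearMap.toMatrix b b (x - 1) := by
    rw [hXm, map_sub, LinearMap.toMatrix_one]
  have hpw : ∀ i, (((X : Matrix.SpecialLinearGroup (Fin n) F) : Matrix (Fin n) (Fin n) F) - 1) ^ i =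
      LinearMap.toMatrix b b ((x - 1) ^ i) := by
    intro i
    rw [hsub, LinearMap.toMatrix_pow]
  have hx1e : ∀ i, 1 ≤ i → (x - 1) ^ i = (LinearMap.mulLeft F ((Tr.lam F k - 1) ^ i)).prodMap 0 := by
    have h1 : x - 1 = (LinearMap.mulLeft F (Tr.lam F k - 1)).prodMap 0 := by
      apply LinearMap.ext
      intro v
      refine Prod.ext ?_ ?_
      · show Tr.lam F k * v.1 - v.1 = (Tr.lam F k - 1) * v.1
        ring
      · show v.2 - v.2 = 0
        exact sub_self _
    intro i hi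
    induction i, hi using Nat.le_induction with
    | base => rw [pow_one, pow_one, h1]
    | succ i hi ih =>
      rw [pow_succ', ih, h1]
      apply LinearMap.ext
      intro v
      refine Prod.ext ?_ rfl
      show (Tr.lam F k - 1) * ((Tr.lam F k - 1) ^ i * v.1) = (Tr.lam F k - 1) ^ (i + 1) * v.1
      rw [pow_succ', mul_assoc]
  refine ⟨X, hX, ?_, ?_⟩
  · rw [hpw, hx1e k (by omega)]
    have h3 : (Tr.lam F k - 1) ^ k = 0 := by
      rw [lam_sub_one, mul_pow, Tr.r_pow, zero_mul]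
    rw [h3]
    have h4 : (LinearMap.mulLeft F (0 : Tr F k)).prodMap (0 : W →ₗ[F] W) = 0 := by
      apply LinearMap.ext
      intro v
      refine Prod.ext ?_ rfl
      show 0 * v.1 = 0
      exact zero_mul _
    rw [h4, map_zero]
  · rw [hpw, hx1e (k - 1) (by omega)]
    rw [Matrix.rank_eq_finrank_range_toLin _ b b, Matrix.toLin_toMatrix]
    have h5 : LinearMap.range ((LinearMap.mulLeft F ((Tr.lam F k - 1) ^ (k - 1))).prodMap (0 : W →ₗ[F] W)) =
        F ∙ ((Tr.r F k ^ (k - 1), (0 : W))) := by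
      have h6 := finrank_range_lam F k (by omega) h2
      apply le_antisymm
      · rintro _ ⟨v, rfl⟩
        have h7 : (LinearMap.mulLeft F ((Tr.lam F k - 1) ^ (k - 1))) v.1 ∈ F ∙ (Tr.r F k ^ (k - 1)) := by
          rw [← h6]; exact ⟨v.1, rfl⟩
        obtain ⟨t, ht⟩ := Submodule.mem_span_singleton.1 h7
        rw [Submodule.mem_span_singleton]
        exact ⟨t, Prod.ext ht (smul_zero _)⟩
      · rw [Submodule.span_singleton_le_iff_mem]
        have h7 : Tr.r F k ^ (k - 1) ∈ LinearMap.range (LinearMap.mulLeft F ((Tr.lam F k - 1) ^ (k - 1))) := by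
          rw [h6]; exact Submodule.mem_span_singleton_self _
        obtain ⟨a, ha⟩ := h7
        exact ⟨(a, 0), Prod.ext ha rfl⟩
    rw [h5, finrank_span_singleton]
    intro h0
    exact r_pow_ne F k (by omega) (congrArg Prod.fst h0)

end Cfsg.Agent.H260.OddM
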