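import Cfsg.Agent.H260.OddM.GeoUTv
import Cfsg.Agent.H260.OddM.GeoUUnip

/-!
# GEO-U: stabilisers of subspaces and decompositions
-/

set_option autoImplicit false
set_option linter.unusedSectionVars false

namespace Cfsg.Agent.H260.OddM

open Cfsg Cfsg.Geo Module Cfsg.Agent.H453.OddM Cfsg.Agent.H251.GeoU Cfsg.Agent.H251.GeoCard Cfsg.Agent.H951
open Cfsg.Agent.ClassicalGeometry.UnitTransv Cfsg.Agent.LieClassical.HermBasic
open scoped Matrix MatrixGroups

section Lin

variable {F V : Type*} [Field F] [AddCommGroup V] [Module F V] [FiniteDimensional F V]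

theorem pow_apply_eq_zero {T : Module.End F V} {K m : ℕ} (hT : T ^ K = 0) {U : Submodule F V}
    (hU : Inv T U) (hm : finrank F U ≤ m) {x : V} (hx : x ∈ U) : (T ^ m) x = 0 := by
  let S : Module.End F U := T.restrict hU
  have hpow : ∀ (i : ℕ) (y : U), (((S ^ i) y : U) : V) = (T ^ i) y := by
    intro i
    induction i with
    | zero => intro y; rfl
    | succ i ih =>
      intro y
      rw [pow_succ', pow_succ', Module.End.mul_apply, Module.End.mul_apply, ← ih]
      rfl
  have hS : IsNilpotent S := ⟨K, by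
    apply LinearMap.ext
    intro y
    apply Subtype.ext
    rw [hpow, hT]
    rfl⟩
  have h1 := hS.charpoly_eq_X_pow_finrank
  have h2 := LinearMap.aeval_self_charpoly S
  rw [h1, map_pow, Polynomial.aeval_X] at h2
  have h3 : (S ^ m) ⟨x, hx⟩ = 0 := by
    obtain ⟨c, rfl⟩ := Nat.exists_eq_add_of_le hm
    rw [add_comm, pow_add, h2, mul_zero]
    rfl
  have h4 := hpow m ⟨x, hx⟩
  rw [h3] at h4
  exact h4.symm

theorem pow_eq_zero_of_compl {T : Module.End F V} {K m : ℕ} (hT : T ^ K = 0) {U W : Submodule F V}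
    (hU : Inv T U) (hW : Inv T W) (h : U ⊔ W = ⊤) (hUm : finrank F U ≤ m) (hWm : finrank F W ≤ m) : T ^ m = 0 := by
  apply LinearMap.ext
  intro x
  have hx : x ∈ U ⊔ W := by rw [h]; exact Submodule.mem_top
  obtain ⟨u, hu, w, hw, rfl⟩ := Submodule.mem_sup.1 hx
  rw [map_add, pow_apply_eq_zero hT hU hUm hu, pow_apply_eq_zero hT hW hWm hw, add_zero]
  rfl

end Lin

variable {F : Type*} [Field F] [Fintype F] {n q : ℕ}

theorem conj_unip (a y : GL (Fin n) F) {k : ℕ} (h0 : ((y : Matrix (Fin n) (Fin n) F) - 1) ^ k = 0)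
    (h1 : (((y : Matrix (Fin n) (Fin n) F) - 1) ^ (k - 1)).rank = 1) :
    (((a * y * a⁻¹ : GL (Fin n) F) : Matrix (Fin n) (Fin n) F) - 1) ^ k = 0 ∧
      ((((a * y * a⁻¹ : GL (Fin n) F) : Matrix (Fin n) (Fin n) F) - 1) ^ (k - 1)).rank = 1 := by
  have h2 : ((a * y * a⁻¹ : GL (Fin n) F) : Matrix (Fin n) (Fin n) F) - 1 =
      (a : Matrix (Fin n) (Fin n) F) * ((y : Matrix (Fin n) (Fin n) F) - 1) *
        ((a⁻¹ : GL (Fin n) F) : Matrix (Fin n) (Fin n) F) := by
    rw [Units.val_mul, Units.val_mul, mul_sub, sub_mul, mul_one, Units.mul_inv]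
  rw [h2, Units.conj_pow, Units.conj_pow, h0, mul_zero, zero_mul]
  refine ⟨rfl, ?_⟩
  rw [Matrix.rank_mul_eq_left_of_isUnit_det, Matrix.rank_mul_eq_right_of_isUnit_det, h1]
  · exact (Matrix.isUnit_iff_isUnit_det _).1 a.isUnit
  · exact (Matrix.isUnit_iff_isUnit_det _).1 (a⁻¹).isUnit

/-- the unipotent elements of type `(k, 1, …, 1)` in `X` -/
theorem CovX.exists_unip (hF : Fintype.card F = q ^ 2) (h2 : (2 : F) ≠ 0) {X : Subgroup (GL (Fin n) F)}
    (h : CovX n F q X) {k : ℕ} (hk : Odd k) (hk3 : 3 ≤ k) (hkn : k ≤ n) :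
    ∃ g : GL (Fin n) F, g ∈ X ∧ ((g : Matrix (Fin n) (Fin n) F) - 1) ^ k = 0 ∧
      (((g : Matrix (Fin n) (Fin n) F) - 1) ^ (k - 1)).rank = 1 := by
  obtain ⟨x, hx, h0, h1⟩ := OddM.exists_unip (n := n) hF h2 hk hk3 hkn
  obtain ⟨A, hA⟩ := h.real x hx
  refine ⟨_, hA, ?_⟩
  rw [map_mul, map_mul, map_inv]
  have h0' : ((H918.suHom n F q x : Matrix (Fin n) (Fin n) F) - 1) ^ k = 0 := h0
  have h1' : (((H918.suHom n F q x : Matrix (Fin n) (Fin n) F) - 1) ^ (k - 1)).rank = 1 := h1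
  generalize H918.suHom n F q A = a
  generalize H918.suHom n F q x = y at h0' h1'
  exact conj_unip a y h0' h1'

theorem inv_sub_one {g : GL (Fin n) F} {W : Submodule F (Fin n → F)}
    (h : Inv (Matrix.toLin' (g : Matrix (Fin n) (Fin n) F)) W) :
    Inv (Matrix.toLin' ((g : Matrix (Fin n) (Fin n) F) - 1)) W := by
  intro w hw
  rw [map_sub, Matrix.toLin'_one, LinearMap.sub_apply, LinearMap.id_apply]
  exact W.sub_mem (h w hw) hw

theorem isom_of_GU {g : GL (Fin n) F} (hg : g ∈ Cfsg.GU n F q) :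
    Isom (hermForm n F q) (Matrix.toLin' (g : Matrix (Fin n) (Fin n) F)) := by
  intro u v
  rw [Matrix.toLin'_apply, Matrix.toLin'_apply]
  exact H918.mem_GU.1 hg u v

theorem toLin_injective (g : GL (Fin n) F) :
    Function.Injective (Matrix.toLin' (g : Matrix (Fin n) (Fin n) F)) := by
  intro x y h
  rw [Matrix.toLin'_apply, Matrix.toLin'_apply] at h
  have h1 := congrArg (fun z => ((g⁻¹ : GL (Fin n) F) : Matrix (Fin n) (Fin n) F) *ᵥ z) h
  simpa [Matrix.mulVec_mulVec, ← Units.val_mul] using h1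

theorem nd_of {W : Submodule F (Fin n → F)} (hW : IsNondegenerateOn (hermForm n F q) W) : Nd (hermForm n F q) W :=
  fun u hu hu0 => (hW u hu hu0).2

/-- two complementary invariant subspaces of dimension at most `m ≤ k - 1` are impossible -/
theorem not_unip_of_compl {g : GL (Fin n) F} {k m : ℕ} (hk : 1 ≤ k)
    (h0 : ((g : Matrix (Fin n) (Fin n) F) - 1) ^ k = 0)
    (h1 : (((g : Matrix (Fin n) (Fin n) F) - 1) ^ (k - 1)).rank = 1) {U W : Submodule F (Fin n → F)}
    (hU : Inv (Matrix.toLin' (g : Matrix (Fin n) (Fin n) F)) U)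
    (hW : Inv (Matrix.toLin' (g : Matrix (Fin n) (Fin n) F)) W) (h : U ⊔ W = ⊤)
    (hUm : finrank F U ≤ m) (hWm : finrank F W ≤ m) (hm : m ≤ k - 1) : False := by
  have hT : (Matrix.toLin' ((g : Matrix (Fin n) (Fin n) F) - 1)) ^ k = 0 := by
    rw [← Matrix.toLin'_pow, h0, map_zero]
  have h3 := pow_eq_zero_of_compl hT (inv_sub_one hU) (inv_sub_one hW) h hUm hWm
  have h4 : (Matrix.toLin' ((g : Matrix (Fin n) (Fin n) F) - 1)) ^ (k - 1) = 0 := by
    obtain ⟨c, hc⟩ := Nat.exists_eq_add_of_le hm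
    rw [hc, pow_add, h3, zero_mul]
  rw [← Matrix.toLin'_pow] at h4
  have h5 : ((g : Matrix (Fin n) (Fin n) F) - 1) ^ (k - 1) = 0 := Matrix.toLin'.map_eq_zero_iff.1 h4
  rw [h5, Matrix.rank_zero] at h1
  exact zero_ne_one h1

/-- **(C1) nondegenerate, `n` odd.** -/
theorem kill_nd_odd (hF : Fintype.card F = q ^ 2) (h2 : (2 : F) ≠ 0) (hn : 3 ≤ n) (hodd : Odd n)
    {W : Submodule F (Fin n → F)} (hW0 : W ≠ ⊥) (hW : IsNondegenerateOn (hermForm n F q) W)
    (hW2 : 2 * finrank F W < n) (h : CovX n F q (subspaceStabilizer W ⊓ Cfsg.GU n F q)) : False := by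
  obtain ⟨g, hg, h0, h1⟩ := h.exists_unip hF h2 hodd hn le_rfl
  have hi := isom_of_GU hg.2
  have hinv := inv_of_mem hg.1
  have hB := H950.frm_herm hF n
  have hc := hB.isCompl_perp (nd_of hW)
  have hinv' := hi.inv_perp hB (toLin_injective g) hinv
  have hpos : 0 < finrank F W := by
    rw [Nat.pos_iff_ne_zero, Ne, Submodule.finrank_eq_zero]
    exact hW0
  have hsum := Submodule.finrank_add_eq_of_isCompl hc
  rw [Module.finrank_fin_fun] at hsum
  exact not_unip_of_compl (m := n - 1) (by omega) h0 h1 hinv hinv' hc.sup_eq_top (by omega) (by omega) le_rfl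

/-- **(C1) nondegenerate, `n` even.** -/
theorem kill_nd_even (hF : Fintype.card F = q ^ 2) {s : ℕ} (hs : s.Prime) (hord : orderOf (-(q : ZMod s)) = n)
    (hev : Even n) (hn : 4 ≤ n) {W : Submodule F (Fin n → F)} (hW0 : W ≠ ⊥)
    (hW2 : 2 * finrank F W < n)
    (h : s ∣ Nat.card (subspaceStabilizer W ⊓ Cfsg.GU n F q : Subgroup (GL (Fin n) F))) : False := by
  have := Fact.mk hs
  have hsq := not_dvd_of_ord hs hord (by omega)
  have hr := natCast_ne hF hs hsq
  obtain ⟨g, hg, hi, hgs, hg1⟩ := exists_elt hs h inf_le_right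
  have hfix := fix_le hF hsq hi hgs hg1
  rw [hord] at hfix
  have hle : W ≤ fx (Matrix.toLin' (g : Matrix (Fin n) (Fin n) F)) := by
    apply le_fx hr hgs (inv_of_mem hg.1)
    rw [hF, ord_sq_even hord hev]
    obtain ⟨c, hc⟩ := hev
    omega
  have h1 := Submodule.finrank_mono hle
  apply hW0
  rw [← Submodule.finrank_eq_zero (R := F)]
  omega

/-- **(C2), two subspaces of dimension `n / 2`.** -/
theorem kill_decomp_two (hF : Fintype.card F = q ^ 2) (h2 : (2 : F) ≠ 0) {k : ℕ} (hnk : n = 2 * k) (hn : 4 ≤ n)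
    {D : Fin 2 → Submodule F (Fin n → F)} (hD : IsMDecomposition k D)
    (h : CovX n F q (decompositionStabilizer D ⊓ Cfsg.GU n F q)) : False := by
  have hkodd : Odd (n - 1) := ⟨k - 1, by omega⟩
  obtain ⟨g, hg, h0, h1⟩ := h.exists_unip hF h2 hkodd (by omega) (by omega)
  obtain ⟨σ, hσ⟩ := hg.1
  set T := Matrix.toLin' (g : Matrix (Fin n) (Fin n) F) with hT
  have hσ2 : ∀ i, σ (σ i) = i := by
    intro i
    have : ∀ τ : Equiv.Perm (Fin 2), ∀ i, τ (τ i) = i := by decide
    exact this σ i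
  have hinv : ∀ i, Inv (T ^ 2) (D i) := by
    intro i w hw
    have h3 : T w ∈ D (σ i) := by rw [← hσ]; exact Submodule.mem_map_of_mem hw
    have h4 : T (T w) ∈ D (σ (σ i)) := by rw [← hσ]; exact Submodule.mem_map_of_mem h3
    rw [hσ2] at h4
    exact h4
  -- `g ^ 2 - 1 = (g - 1) (g + 1)`
  have hN : IsNilpotent ((g : Matrix (Fin n) (Fin n) F) - 1) := ⟨_, h0⟩
  have hu : IsUnit ((g : Matrix (Fin n) (Fin n) F) + 1) := by
    have h3 : (g : Matrix (Fin n) (Fin n) F) + 1 = algebraMap F (Matrix (Fin n) (Fin n) F) 2 + ((g : Matrix (Fin n) (Fin n) F) - 1) := by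
      rw [map_ofNat]
      have : (2 : Matrix (Fin n) (Fin n) F) = 1 + 1 := by norm_num
      rw [this]; abel
    rw [h3]
    exact hN.isUnit_add_left_of_commute (h2.isUnit.map _) (Algebra.commutes (2 : F) _).symm
  have hcomm : Commute ((g : Matrix (Fin n) (Fin n) F) - 1) ((g : Matrix (Fin n) (Fin n) F) + 1) :=
    ((Commute.refl _).sub_left (Commute.one_left _)).add_right (Commute.one_right _)
  have hfac : (g : Matrix (Fin n) (Fin n) F) ^ 2 - 1 =
      ((g : Matrix (Fin n) (Fin n) F) - 1) * ((g : Matrix (Fin n) (Fin n) F) + 1) := by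
    rw [sub_mul, mul_add, one_mul, mul_one, sq]; abel
  have hpw : ∀ i, ((g : Matrix (Fin n) (Fin n) F) ^ 2 - 1) ^ i =
      ((g : Matrix (Fin n) (Fin n) F) - 1) ^ i * ((g : Matrix (Fin n) (Fin n) F) + 1) ^ i := by
    intro i
    rw [hfac, hcomm.mul_pow]
  have hg2 : (((g ^ 2 : GL (Fin n) F)) : Matrix (Fin n) (Fin n) F) = (g : Matrix (Fin n) (Fin n) F) ^ 2 :=
    Units.val_pow_eq_pow_val _ _
  have hz : (((g ^ 2 : GL (Fin n) F) : Matrix (Fin n) (Fin n) F) - 1) ^ (n - 1) = 0 := by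
    rw [hg2, hpw, h0, zero_mul]
  have hr : ((((g ^ 2 : GL (Fin n) F) : Matrix (Fin n) (Fin n) F) - 1) ^ (n - 1 - 1)).rank = 1 := by
    rw [hg2, hpw, Matrix.rank_mul_eq_left_of_isUnit_det, h1]
    exact (Matrix.isUnit_iff_isUnit_det _).1 (hu.pow _)
  have hinv' : ∀ i, Inv (Matrix.toLin' ((g ^ 2 : GL (Fin n) F) : Matrix (Fin n) (Fin n) F)) (D i) := by
    intro i
    rw [hg2, Matrix.toLin'_pow]
    exact hinv i
  have htop : D 0 ⊔ D 1 = ⊤ := by
    rw [← hD.iSup_eq_top]
    apply le_antisymm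
    · exact sup_le (le_iSup D 0) (le_iSup D 1)
    · apply iSup_le
      intro i
      fin_cases i
      · exact le_sup_left
      · exact le_sup_right
  exact not_unip_of_compl (m := k) (by omega) hz hr (hinv' 0) (hinv' 1) htop (hD.finrank_eq 0).le (hD.finrank_eq 1).le
    (by omega)

/-- **(C2), `k ≥ 2`, at least three subspaces.** -/
theorem kill_decomp_big (hF : Fintype.card F = q ^ 2) {m s : ℕ} (hs : s.Prime)
    (hord : orderOf (-(q : ZMod s)) = m) (hm : Even m) (hn : 4 ≤ n) (hnm : n ≤ m + 1) {t k : ℕ}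
    {D : Fin t → Submodule F (Fin n → F)} (hD : IsMDecomposition k D) (ht : 3 ≤ t) (hk : 2 ≤ k)
    (h : s ∣ Nat.card (decompositionStabilizer D)) : False := by
  have hsq := not_dvd_of_ord hs hord (by omega)
  have htk : t * k = n := by rw [H918.decomp_card hD, Fintype.card_fin]
  obtain ⟨c, hc⟩ := hm
  rcases decomp hD hs (not_dvd_card hF hs hsq) h with h1 | h1
  · have h3 := dvd_pred_of_ord hs hord (by omega)
    have h4 := Nat.le_of_dvd (by have := hs.two_le; omega) h3
    have : t * 2 ≤ t * k := Nat.mul_le_mul_left _ hk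
    omega
  · rw [nat_card_eq hF] at h1
    have h3 := ord_le_of_div (Nat.one_le_pow _ _ (LieClassical.HermBasic.q_pos hF)) h1
    rw [ord_sq_even hord ⟨c, hc⟩] at h3
    have : 3 * k ≤ t * k := Nat.mul_le_mul_right _ ht
    omega

/-- **(C2), an orthonormal frame.** -/
theorem kill_frame (hF : Fintype.card F = q ^ 2) (h2 : (2 : F) ≠ 0) (hn : 3 ≤ n) {t : ℕ}
    {D : Fin t → Submodule F (Fin n → F)} (hD : IsNondegenerateMDecomposition (hermForm n F q) 1 D)
    (h : CovX n F q (decompositionStabilizer D ⊓ Cfsg.GU n F q)) : False := by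
  obtain ⟨v, c, hv, hc, hv0, hc0, hX⟩ := h.exists_tv hF hn
  obtain ⟨σ, hσ⟩ := hX.1
  -- some member is not orthogonal to `v`
  have hex : ∃ i, ∃ d ∈ D i, hermForm n F q d v ≠ 0 := by
    by_contra hcon
    push Not at hcon
    obtain ⟨y, hy⟩ := exists_herm_ne_zero hF hv0
    have hall : ∀ x : Fin n → F, hermForm n F q x v = 0 := by
      intro x
      have hx : x ∈ iSup D := by rw [hD.decomp.iSup_eq_top]; exact Submodule.mem_top
      have hle : iSup D ≤ (H950.frm_herm hF n).perp (F ∙ v) := by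
        apply iSup_le
        intro i d hd w hw
        obtain ⟨a, rfl⟩ := Submodule.mem_span_singleton.1 hw
        rw [herm_smul_right, hcon i d hd, mul_zero]
      exact hle hx v (Submodule.mem_span_singleton_self v)
    exact hy (herm_eq_zero_swap hF (hall y))
  obtain ⟨i, d, hd, hdv⟩ := hex
  have hd0 : d ≠ 0 := by
    rintro rfl
    exact hdv (herm_zero_left v)
  -- `d` spans `D i`
  have hspan : ∀ x ∈ D i, ∃ a : F, x = a • d := by
    intro x hx
    have h1 := (finrank_eq_one_iff_of_nonzero' (⟨d, hd⟩ : D i) (by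
      intro h0; exact hd0 (congrArg Subtype.val h0))).1 (hD.decomp.finrank_eq i) ⟨x, hx⟩
    obtain ⟨a, ha⟩ := h1
    exact ⟨a, (congrArg Subtype.val ha).symm⟩
  have hdd : hermForm n F q d d ≠ 0 := by
    obtain ⟨⟨x, hx, hxd⟩, -⟩ := hD.nondegenerate i d hd hd0
    obtain ⟨a, rfl⟩ := hspan x hx
    rw [herm_smul_left] at hxd
    exact right_ne_zero_of_mul hxd
  have hac : c * hermForm n F q d v ≠ 0 := mul_ne_zero hc0 hdv
  set y := (H918.tv hF v c hv hc : Matrix (Fin n) (Fin n) F) *ᵥ d with hy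
  have hyv : y = d + (c * hermForm n F q d v) • v := H918.tv_mulVec hF hv hc d
  have hyD : y ∈ D (σ i) := by
    rw [← hσ]
    refine ⟨d, hd, ?_⟩
    rw [Matrix.toLin'_apply]
  have hyy : hermForm n F q y y = hermForm n F q d d := H918.mem_GU.1 hX.2 d d
  by_cases hi : σ i = i
  · rw [hi] at hyD
    obtain ⟨a, ha⟩ := hspan y hyD
    -- `v` is a multiple of `d`
    have h3 : (c * hermForm n F q d v) • v = (a - 1) • d := by
      rw [sub_smul, one_smul, ← ha, hyv]; abel
    have h4 : hermForm n F q ((c * hermForm n F q d v) • v) ((c * hermForm n F q d v) • v) = 0 := by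
      rw [herm_smul_left, herm_smul_right, hv, mul_zero, mul_zero]
    rw [h3, herm_smul_left, herm_smul_right] at h4
    have h5 : a - 1 = 0 := by
      rcases mul_eq_zero.1 h4 with h6 | h6
      · exact h6
      · rcases mul_eq_zero.1 h6 with h7 | h7
        · exact (pow_q_eq_zero hF).1 h7
        · exact absurd h7 hdd
    rw [h5, zero_smul] at h3
    rcases smul_eq_zero.1 h3 with h6 | h6
    · exact hac h6
    · exact hv0 h6
  · have h3 : hermForm n F q d y = 0 := hD.orthogonal i (σ i) (fun h => hi h.symm) d hd y hyD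
    have h3' : hermForm n F q y d = 0 := herm_eq_zero_swap hF h3
    have h4 : (c * hermForm n F q d v) • v = y - d := by rw [hyv]; abel
    have h5 : hermForm n F q (y - d) (y - d) = 0 := by
      rw [← h4, herm_smul_left, herm_smul_right, hv, mul_zero, mul_zero]
    rw [herm_sub_left, herm_sub_right hF, herm_sub_right hF, hyy, h3, h3', sub_zero, zero_sub, sub_neg_eq_add,
      ← two_mul] at h5
    exact (mul_ne_zero h2 hdd) h5

end Cfsg.Agent.H260.OddM
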