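import Cfsg.Agent.H260.OddM.GeoUA
import Cfsg.Agent.H262.ElTransv
import Cfsg.Agent.H918.TransvWreath
import Cfsg.Agent.ClassicalGeometry.RankOne

/-!
# GEO-U: totally singular subspaces, extension fields, tensor products, symplectic type groups, subfields
-/

set_option autoImplicit false
set_option linter.unusedSectionVars false

namespace Cfsg.Agent.H260.OddM

open Cfsg Cfsg.Geo Module Cfsg.Agent.H453.OddM Cfsg.Agent.H251.GeoU Cfsg.Agent.H251.GeoCard Cfsg.Agent.H951
open Cfsg.Agent.ClassicalGeometry.UnitTransv Cfsg.Agent.LieClassical.HermBasic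
open scoped Matrix MatrixGroups

variable {F : Type*} [Field F] [Fintype F] {n q : ℕ}

/-! ### transvections -/

theorem isTv_tv (hF : Fintype.card F = q ^ 2) {v : Fin n → F} {c : F} (hv : hermForm n F q v v = 0)
    (hc : c + c ^ q = 0) (hv0 : v ≠ 0) (hc0 : c ≠ 0) : H262.El.IsTv (H918.tv hF v c hv hc) := by
  refine ⟨v, c • (fun j => v j ^ q), hv0, ?_, ?_, ?_⟩
  · intro h
    apply hv0
    funext j
    have := congrFun h j
    rw [Pi.smul_apply, smul_eq_mul, Pi.zero_apply] at this
    exact (pow_q_eq_zero hF).1 ((mul_eq_zero.1 this).resolve_left hc0)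
  · rw [smul_dotProduct]
    have : (fun j => v j ^ q) ⬝ᵥ v = hermForm n F q v v :=
      Finset.sum_congr rfl fun i _ => mul_comm _ _
    rw [this, hv, smul_zero]
  · rw [H918.coe_tv, Matrix.vecMulVec_smul]

theorem CovX.exists_isTv (hF : Fintype.card F = q ^ 2) (hn : 3 ≤ n) {X : Subgroup (GL (Fin n) F)}
    (h : CovX n F q X) : ∃ g ∈ X, H262.El.IsTv g := by
  obtain ⟨v, c, hv, hc, hv0, hc0, hX⟩ := h.exists_tv hF hn
  exact ⟨_, hX, isTv_tv hF hv hc hv0 hc0⟩

/-- **(C3)** -/
theorem kill_field (hF : Fintype.card F = q ^ 2) (hn : 3 ≤ n) {r : ℕ} (hr : r.Prime)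
    {K : Subalgebra F (Matrix (Fin n) (Fin n) F)} (hK : IsFieldSubalgebra r K)
    (h : CovX n F q (subalgebraNormalizer K ⊓ Cfsg.GU n F q)) : False := by
  obtain ⟨g, hg, hgt⟩ := h.exists_isTv hF hn
  exact H262.El.rankOne_not_mem_subalgebraNormalizer (by rw [Fintype.card_fin]; omega) hgt.isRankOneElt hr.two_le hK
    hg.1

/-- **(C4)** -/
theorem kill_tensorU (hF : Fintype.card F = q ^ 2) (hn : 3 ≤ n) {n₁ n₂ : ℕ} (e : Fin n ≃ Fin n₁ × Fin n₂)
    (P : GL (Fin n) F) (h2 : 2 ≤ n₁) (h12 : n₁ < n₂)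
    (h : CovX n F q (tensorProductSubgroup n₁ n₂ e P ⊓ Cfsg.GU n F q)) : False := by
  obtain ⟨g, hg, hgt⟩ := h.exists_isTv hF hn
  exact hgt.isRankOneElt.not_mem_tensorProductSubgroup h2 (by omega) e P hg.1

/-- **(C7)** -/
theorem kill_wreathU (hF : Fintype.card F = q ^ 2) (hn : 3 ≤ n) {k t : ℕ} (e : Fin n ≃ (Fin t → Fin k))
    (P : GL (Fin n) F) (hk : 3 ≤ k) (ht : 2 ≤ t)
    (h : CovX n F q (tensorWreathSubgroup k t e P ⊓ Cfsg.GU n F q)) : False := by
  obtain ⟨g, hg, hgt⟩ := h.exists_isTv hF hn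
  exact hgt.isRankOneElt.not_mem_tensorWreathSubgroup hk ht e P hg.1

/-- **(C6)** -/
theorem kill_sympU (hF : Fintype.card F = q ^ 2) (hn : 4 ≤ n) {r k : ℕ} {R : Subgroup (GL (Fin n) F)}
    (hR : IsSymplecticTypeGroup r R) (habs : ActsAbsolutelyIrreducibly (matrixSet R)) (ht : H920.IsType r k R)
    (h : CovX n F q (subgroupNormalizer R ⊓ Cfsg.GU n F q)) : False := by
  have hne : Nonempty (Fin n) := ⟨⟨0, by omega⟩⟩
  obtain ⟨g, hg, hgt⟩ := h.exists_isTv hF (by omega)
  refine hgt.not_mem_subgroupNormalizer (by rw [Fintype.card_fin]; omega) habs ?_ hg.1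
  intro a ha b hb
  obtain ⟨c, hc⟩ := (mem_scalars_iff _).1 (H920.comm_of_type hR habs ht a ha b hb)
  refine ⟨c, ?_⟩
  have h2 : a * b = (a * b * a⁻¹ * b⁻¹) * (b * a) := by group
  have h3 := congrArg Units.val h2
  rw [Units.val_mul, Units.val_mul (a * b * a⁻¹ * b⁻¹), Units.val_mul b a] at h3
  rw [h3, hc, Matrix.smul_mul, Matrix.one_mul]

/-! ### totally singular subspaces -/

theorem neg_one_pow_q (hF : Fintype.card F = q ^ 2) : (-1 : F) ^ q = -1 := by
  rw [neg_pow_q hF, one_pow]

/-- the diagonal matrices with entries `± 1` -/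
def signs (n : ℕ) (F : Type*) [Field F] (q : ℕ) : Subgroup (SU n F q) where
  carrier := {x | ∃ ε : Fin n → F, (∀ i, ε i * ε i = 1) ∧
    ((x : Matrix.SpecialLinearGroup (Fin n) F) : Matrix (Fin n) (Fin n) F) = Matrix.diagonal ε}
  mul_mem' := by
    rintro x y ⟨ε, hε, hx⟩ ⟨δ, hδ, hy⟩
    refine ⟨fun i => ε i * δ i, fun i => ?_, ?_⟩
    · calc ε i * δ i * (ε i * δ i) = (ε i * ε i) * (δ i * δ i) := by ring
        _ = 1 := by rw [hε, hδ, one_mul]
    · show ((x : Matrix.SpecialLinearGroup (Fin n) F) : Matrix (Fin n) (Fin n) F) *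
        ((y : Matrix.SpecialLinearGroup (Fin n) F) : Matrix (Fin n) (Fin n) F) = _
      rw [hx, hy, Matrix.diagonal_mul_diagonal]
  one_mem' := ⟨fun _ => 1, fun _ => one_mul 1, Matrix.diagonal_one.symm⟩
  inv_mem' := by
    rintro x ⟨ε, hε, hx⟩
    have h1 : x * x = 1 := by
      apply Subtype.ext
      apply Subtype.ext
      show ((x : Matrix.SpecialLinearGroup (Fin n) F) : Matrix (Fin n) (Fin n) F) *
        ((x : Matrix.SpecialLinearGroup (Fin n) F) : Matrix (Fin n) (Fin n) F) = 1
      rw [hx, Matrix.diagonal_mul_diagonal, ← Matrix.diagonal_one]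
      congr 1
      funext i
      exact hε i
    rw [inv_eq_of_mul_eq_one_right h1]
    exact ⟨ε, hε, hx⟩

theorem signs_sq {x : SU n F q} (hx : x ∈ signs n F q) : x ^ 2 = 1 := by
  obtain ⟨ε, hε, hx⟩ := hx
  rw [sq]
  apply Subtype.ext
  apply Subtype.ext
  show ((x : Matrix.SpecialLinearGroup (Fin n) F) : Matrix (Fin n) (Fin n) F) *
    ((x : Matrix.SpecialLinearGroup (Fin n) F) : Matrix (Fin n) (Fin n) F) = 1
  rw [hx, Matrix.diagonal_mul_diagonal, ← Matrix.diagonal_one]
  congr 1
  funext i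
  exact hε i

theorem signs_isPGroup : IsPGroup 2 (signs n F q) := by
  intro x
  refine ⟨1, ?_⟩
  apply Subtype.ext
  rw [pow_one]
  exact signs_sq x.2

theorem exists_sign (hF : Fintype.card F = q ^ 2) {j l : Fin n} (hjl : j ≠ l) :
    ∃ x ∈ signs n F q, ∀ u : Fin n → F, act x u = fun i => if i = j ∨ i = l then -u i else u i := by
  classical
  have hd : ∏ i : Fin n, (if i ∈ ({j, l} : Finset (Fin n)) then (-1 : F) else 1) = 1 := by
    rw [Finset.prod_ite_mem, Finset.univ_inter, Finset.prod_const, Finset.card_pair hjl]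
    norm_num
  have ha : ∀ i : Fin n, (if i ∈ ({j, l} : Finset (Fin n)) then (-1 : F) else 1) ^ (q + 1) = 1 := by
    intro i
    split_ifs
    · rw [pow_succ, neg_one_pow_q hF]; ring
    · rw [one_pow]
  refine ⟨Cfsg.Agent.LieClassical.SUBasic.suDiag q _ hd ha, ⟨_, fun i => ?_, rfl⟩, fun u => ?_⟩
  · split_ifs
    · ring
    · ring
  · show Matrix.diagonal (fun i => if i ∈ ({j, l} : Finset (Fin n)) then (-1 : F) else 1) *ᵥ u = _
    funext i
    rw [Matrix.mulVec_diagonal]
    simp only [Finset.mem_insert, Finset.mem_singleton]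
    split_ifs
    · ring
    · ring

/-- **(C1), totally singular.** -/
theorem kill_ts (hF : Fintype.card F = q ^ 2) (h2 : (2 : F) ≠ 0) (hn : 3 ≤ n) {W : Submodule F (Fin n → F)}
    (hW0 : W ≠ ⊥) (hW : IsTotallySingularFor (hermForm n F q) W)
    (h : CovX n F q (subspaceStabilizer W ⊓ Cfsg.GU n F q)) : False := by
  classical
  obtain ⟨A, hA⟩ := h.two (signs n F q) signs_isPGroup
  -- the pullback of `W`
  let W' : Submodule F (Fin n → F) :=
    { carrier := {u | act A u ∈ W}
      add_mem' := fun {a b} ha hb => by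
        show act A (a + b) ∈ W
        rw [act_add]; exact W.add_mem ha hb
      zero_mem' := by
        show act A 0 ∈ W
        rw [act_zero]; exact W.zero_mem
      smul_mem' := fun c x hx => by
        show act A (c • x) ∈ W
        rw [act_smul]; exact W.smul_mem c hx }
  have hW' : ∀ u ∈ W', ∀ v ∈ W', hermForm n F q u v = 0 := by
    intro u hu v hv
    rw [← herm_act A]
    exact hW _ hu _ hv
  have hinv : ∀ x ∈ signs n F q, ∀ u ∈ W', act x u ∈ W' := by
    intro x hx u hu
    show act A (act x u) ∈ W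
    have h1 := inv_of_mem (hA x hx).1 (act A u) hu
    rw [Matrix.toLin'_apply] at h1
    have h3 : act (A * x * A⁻¹) (act A u) ∈ W := h1
    rw [act_mul, act_mul, act_inv_act] at h3
    exact h3
  obtain ⟨w, hw, hw0⟩ := W.ne_bot_iff.1 hW0
  set u := act A⁻¹ w with hu
  have huW : u ∈ W' := by
    show act A (act A⁻¹ w) ∈ W
    rwa [act_act_inv]
  have hu0 : u ≠ 0 := by
    intro h0
    apply hw0
    rw [← act_act_inv A w, ← hu, h0, act_zero]
  obtain ⟨i, hi⟩ : ∃ i, u i ≠ 0 := by
    by_contra hcon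
    push Not at hcon
    exact hu0 (funext hcon)
  -- kill the other coordinates
  have key : ∀ s : Finset (Fin n), i ∉ s → ∃ u' ∈ W', u' i = u i ∧ ∀ j ∈ s, u' j = 0 := by
    intro s
    induction s using Finset.induction_on with
    | empty => intro _; exact ⟨u, huW, rfl, by simp⟩
    | insert j s hj ih =>
      intro his
      rw [Finset.mem_insert, not_or] at his
      obtain ⟨u', hu', hui, hus⟩ := ih his.2
      -- a third coordinate
      obtain ⟨l, hl⟩ : ∃ l : Fin n, l ≠ i ∧ l ≠ j := by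
        by_contra hcon
        push Not at hcon
        have h1 : (Finset.univ : Finset (Fin n)) ⊆ {i, j} := by
          intro l _
          rw [Finset.mem_insert, Finset.mem_singleton]
          by_cases hl : l = i
          · exact Or.inl hl
          · exact Or.inr (hcon l hl)
        have h3 := Finset.card_le_card h1
        rw [Finset.card_univ, Fintype.card_fin] at h3
        have h4 := Finset.card_le_two (a := i) (b := j)
        omega
      obtain ⟨x, hx, hxu⟩ := exists_sign hF (n := n) (j := j) (l := l) hl.2.symm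
      refine ⟨(2 : F)⁻¹ • (u' + act x u'), W'.smul_mem _ (W'.add_mem hu' (hinv x hx u' hu')), ?_, ?_⟩
      · rw [hxu]
        simp only [Pi.smul_apply, Pi.add_apply, smul_eq_mul]
        rw [if_neg (by rintro (h1 | h1); exacts [his.1 h1, hl.1 h1.symm]), ← two_mul, inv_mul_cancel_left₀ h2, hui]
      · intro k hk
        rw [hxu]
        simp only [Pi.smul_apply, Pi.add_apply, smul_eq_mul]
        rw [Finset.mem_insert] at hk
        by_cases hkj : k = j ∨ k = l
        · rw [if_pos hkj, add_neg_cancel, mul_zero]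
        · rw [if_neg hkj]
          rcases hk with hk | hk
          · exact absurd (Or.inl hk) hkj
          · rw [hus k hk, add_zero, mul_zero]
  obtain ⟨u', hu', hui, hus⟩ := key (Finset.univ.erase i) (by simp)
  have h1 := hW' u' hu' u' hu'
  have h3 : u' = Pi.single i (u i) := by
    funext k
    by_cases hk : k = i
    · subst hk
      rw [Pi.single_eq_same, hui]
    · rw [Pi.single_eq_of_ne hk]
      exact hus k (by simp [hk])
  rw [h3, herm_single_left, Pi.single_eq_same] at h1
  rcases mul_eq_zero.1 h1 with h4 | h4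
  · exact hi h4
  · exact hi ((pow_q_eq_zero hF).1 h4)

end Cfsg.Agent.H260.OddM
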