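import Cfsg.Agent.H260.OddM.GeoUB

/-!
# GEO-U: subfield groups
-/

set_option autoImplicit false
set_option linter.unusedSectionVars false

namespace Cfsg.Agent.H260.OddM

open Cfsg Cfsg.Geo Module Cfsg.Agent.H453.OddM Cfsg.Agent.H251.GeoU Cfsg.Agent.H251.GeoCard Cfsg.Agent.H951
open Cfsg.Agent.ClassicalGeometry.UnitTransv Cfsg.Agent.LieClassical.HermBasic
open scoped Matrix MatrixGroups

section Form

variable {ι : Type} [Fintype ι] [DecidableEq ι] {F : Type*} [Field F]

theorem rank_vecMulVec_eq {u w : ι → F} (hu : u ≠ 0) (hw : w ≠ 0) : (Matrix.vecMulVec u w).rank = 1 := by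
  apply le_antisymm (Matrix.rank_vecMulVec_le u w)
  rw [Nat.one_le_iff_ne_zero, Matrix.rank, Ne, Submodule.finrank_eq_zero, LinearMap.range_eq_bot]
  intro h
  obtain ⟨i, hi⟩ := Function.ne_iff.1 hu
  obtain ⟨j, hj⟩ := Function.ne_iff.1 hw
  have h1 := congrFun (LinearMap.congr_fun h (Pi.single j 1)) i
  rw [Matrix.mulVecLin_apply, Matrix.mulVec_single_one] at h1
  have h3 : u i * w j = 0 := h1
  exact mul_ne_zero hi hj h3

/-- no skew-symmetric matrix of rank one in odd characteristic -/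
theorem not_skew_rank_one (h2 : (2 : F) ≠ 0) {K : Matrix ι ι F} (hK : Kᵀ = -K) (hr : K.rank = 1) : False := by
  obtain ⟨a, b, ha, hb, hab⟩ := Cfsg.Agent.ClassicalGeometry.RankOne.exists_vecMulVec_of_rank_eq_one K hr
  have hs : ∀ i j, a j * b i = -(a i * b j) := by
    intro i j
    have h1 := congrFun (congrFun hK i) j
    rw [hab, Matrix.transpose_apply, Matrix.neg_apply, Matrix.vecMulVec_apply, Matrix.vecMulVec_apply] at h1
    exact h1
  have hd : ∀ i, a i * b i = 0 := by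
    intro i
    have h1 := hs i i
    have h3 : (2 : F) * (a i * b i) = 0 := by linear_combination h1
    exact (mul_eq_zero.1 h3).resolve_left h2
  obtain ⟨i, hi⟩ := Function.ne_iff.1 ha
  obtain ⟨j, hj⟩ := Function.ne_iff.1 hb
  rw [Pi.zero_apply] at hi hj
  have h1 : a j * b i ≠ 0 := by
    rw [hs i j]
    exact neg_ne_zero.2 (mul_ne_zero hi hj)
  exact mul_ne_zero hi (right_ne_zero_of_mul h1) (hd i)

/-- a unipotent isometry `B` of a (skew-)symmetric form with `(B - 1) ^ j` of rank one -/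
theorem not_form (h2 : (2 : F) ≠ 0) {G B : Matrix ι ι F} {j : ℕ} {ε : F} (hG : IsUnit G.det) (hB : Bᵀ * G * B = G)
    (hj : (B - 1) ^ (j + 1) = 0) (hr : ((B - 1) ^ j).rank = 1) (hs : Gᵀ = ε • G) (hε : ε * (-1) ^ j = -1) : False := by
  have hBdet : IsUnit B.det := by
    have h1 := congrArg Matrix.det hB
    rw [Matrix.det_mul, Matrix.det_mul, Matrix.det_transpose] at h1
    rw [isUnit_iff_ne_zero] at hG ⊢
    rintro h0
    rw [h0, mul_zero] at h1
    exact hG h1.symm
  set C := B⁻¹ with hC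
  have hBC : B * C = 1 := Matrix.mul_nonsing_inv B hBdet
  have hCB : C * B = 1 := Matrix.nonsing_inv_mul B hBdet
  set N := B - 1 with hN
  have hBN : B = 1 + N := by rw [hN]; abel
  -- `Nᵀ G = G M`
  set M := C - 1 with hM
  have hNG : Nᵀ * G = G * M := by
    have h1 : Bᵀ * G = G * C := by
      calc Bᵀ * G = Bᵀ * G * (B * C) := by rw [hBC, mul_one]
        _ = (Bᵀ * G * B) * C := by rw [← mul_assoc]
        _ = G * C := by rw [hB]
    rw [hN, hM, Matrix.transpose_sub, Matrix.transpose_one, sub_mul, one_mul, h1, mul_sub, mul_one]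
  have hMN : M = -(C * N) := by
    rw [hM, hN, mul_sub, mul_one, hCB]; abel
  have hcomm : Commute C N := by
    show C * N = N * C
    rw [hN, mul_sub, sub_mul, hCB, hBC, mul_one, one_mul]
  have hCN : C * N ^ j = N ^ j := by
    have h1 : B * N ^ j = N ^ j := by
      rw [hBN, add_mul, one_mul, ← pow_succ', hj, add_zero]
    calc C * N ^ j = C * (B * N ^ j) := by rw [h1]
      _ = N ^ j := by rw [← mul_assoc, hCB, one_mul]
  have hCi : ∀ i, C ^ i * N ^ j = N ^ j := by
    intro i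
    induction i with
    | zero => rw [pow_zero, one_mul]
    | succ i ih => rw [pow_succ, mul_assoc, hCN, ih]
  have hMj : M ^ j = (-1 : F) ^ j • N ^ j := by
    rw [hMN, neg_pow, hcomm.mul_pow, hCi]
    rcases Nat.even_or_odd j with h | h
    · rw [h.neg_one_pow, h.neg_one_pow, one_mul, one_smul]
    · rw [h.neg_one_pow, h.neg_one_pow, neg_one_mul, neg_one_smul]
  have hpow : ∀ i, (Nᵀ) ^ i * G = G * M ^ i := by
    intro i
    induction i with
    | zero => rw [pow_zero, pow_zero, one_mul, mul_one]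
    | succ i ih => rw [pow_succ, mul_assoc, hNG, ← mul_assoc, ih, mul_assoc, ← pow_succ]
  have hskew : (G * N ^ j)ᵀ = -(G * N ^ j) := by
    rw [Matrix.transpose_mul, hs, Matrix.transpose_pow, Matrix.mul_smul, hpow, hMj, Matrix.mul_smul, smul_smul, hε,
      neg_one_smul]
  refine not_skew_rank_one h2 hskew ?_
  rw [Matrix.rank_mul_eq_right_of_isUnit_det _ _ hG, hr]

end Form

section Subfield

variable {F : Type*} [Field F] [Fintype F] {n q : ℕ}

/-- unipotent elements of a subfield group have entries in the subfield (up to the change of basis) -/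
theorem mem_subfield_of_unip (hn : 0 < n) {F₀ : Subfield F} {P g : GL (Fin n) F} (hg : g ∈ subfieldSubgroup F₀ P) {k : ℕ}
    (hk : ((g : Matrix (Fin n) (Fin n) F) - 1) ^ k = 0) :
    ∀ i j, ((P⁻¹ * g * P : GL (Fin n) F) : Matrix (Fin n) (Fin n) F) i j ∈ F₀ := by
  obtain ⟨c, hc0, hc⟩ := H914.mem_subfieldSubgroup_iff.1 hg
  obtain ⟨p, hpc⟩ := CharP.exists F
  have hp : p.Prime := CharP.char_is_prime F p
  haveI := Fact.mk hp
  haveI : Nonempty (Fin n) := ⟨⟨0, hn⟩⟩
  haveI : CharP (Matrix (Fin n) (Fin n) F) p := inferInstance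
  -- `g ^ (p ^ k) = 1`
  have hgp : (g : Matrix (Fin n) (Fin n) F) ^ (p ^ k) = 1 := by
    have h1 : ((g : Matrix (Fin n) (Fin n) F) - 1) ^ (p ^ k) = 0 := by
      obtain ⟨d, hd⟩ := Nat.exists_eq_add_of_le (Nat.lt_pow_self hp.one_lt : k < p ^ k).le
      rw [hd, pow_add, hk, zero_mul]
    rw [sub_pow_char_pow_of_commute p k (Commute.one_right (g : Matrix (Fin n) (Fin n) F))] at h1
    rw [one_pow, sub_eq_zero] at h1
    exact h1
  have hgp' : g ^ (p ^ k) = 1 := by
    apply Units.ext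
    rw [Units.val_pow_eq_pow_val, hgp, Units.val_one]
  set B : Matrix (Fin n) (Fin n) F := ((P⁻¹ * g * P : GL (Fin n) F) : Matrix (Fin n) (Fin n) F) with hB
  have hBp : B ^ (p ^ k) = 1 := by
    have h1 : (P⁻¹ * g * P) ^ (p ^ k) = 1 := by
      have h3 := conj_pow (a := P⁻¹) (b := g) (i := p ^ k)
      rw [inv_inv, hgp', mul_one, inv_mul_cancel] at h3
      exact h3
    rw [hB, ← Units.val_pow_eq_pow_val, h1, Units.val_one]
  -- `c ^ (p ^ k) ∈ F₀`
  let B₀ : Matrix (Fin n) (Fin n) F₀ := fun i j => ⟨c * B i j, hc i j⟩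
  have hB₀ : F₀.subtype.mapMatrix B₀ = c • B := by
    ext i j
    rfl
  have hcp : c ^ (p ^ k) ∈ F₀ := by
    have h1 : F₀.subtype.mapMatrix (B₀ ^ (p ^ k)) = c ^ (p ^ k) • (1 : Matrix (Fin n) (Fin n) F) := by
      rw [map_pow, hB₀, smul_pow, hBp]
    have h3 := congrFun (congrFun h1 ⟨0, hn⟩) ⟨0, hn⟩
    rw [Matrix.smul_apply, Matrix.one_apply_eq, smul_eq_mul, mul_one] at h3
    rw [← h3]
    exact ((B₀ ^ (p ^ k)) ⟨0, hn⟩ ⟨0, hn⟩).2
  -- `c ∈ F₀`
  have hcF : c ∈ F₀ := by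
    let φ : F₀ → F₀ := fun x => x ^ (p ^ k)
    have hinjF : ∀ x y : F, x ^ (p ^ k) = y ^ (p ^ k) → x = y := by
      intro x y hxy
      have h1 : (x - y) ^ (p ^ k) = 0 := by rw [sub_pow_char_pow, hxy, sub_self]
      exact sub_eq_zero.1 (pow_eq_zero_iff (pow_ne_zero _ hp.ne_zero) |>.1 h1)
    have hinj : Function.Injective φ := fun x y hxy =>
      Subtype.ext (hinjF x y (congrArg Subtype.val hxy))
    have hsurj : Function.Surjective φ := Finite.injective_iff_surjective.1 hinj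
    obtain ⟨d, hd⟩ := hsurj ⟨_, hcp⟩
    have h1 : (d : F) ^ (p ^ k) = c ^ (p ^ k) := congrArg Subtype.val hd
    rw [← hinjF _ _ h1]
    exact d.2
  intro i j
  have h1 : B i j = c⁻¹ * (c * B i j) := by rw [inv_mul_cancel_left₀ hc0]
  rw [h1]
  exact F₀.mul_mem (F₀.inv_mem hcF) (hc i j)

theorem pow_q_of_mem {F₀ : Subfield F} (hF₀ : Nat.card F₀ = q) {x : F} (hx : x ∈ F₀) : x ^ q = x := by
  haveI : Finite F₀ := inferInstance
  haveI : Fintype F₀ := Fintype.ofFinite F₀
  have h1 : (⟨x, hx⟩ : F₀) ^ (Fintype.card F₀) = ⟨x, hx⟩ := FiniteField.pow_card _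
  rw [← Nat.card_eq_fintype_card, hF₀] at h1
  exact congrArg Subtype.val h1

/-- the Gram matrix of the basis `P` -/
def gramP (P : GL (Fin n) F) (q : ℕ) : Matrix (Fin n) (Fin n) F :=
  fun i j => hermForm n F q ((P : Matrix (Fin n) (Fin n) F) *ᵥ Pi.single i 1) ((P : Matrix (Fin n) (Fin n) F) *ᵥ Pi.single j 1)

theorem gramP_eq (hF : Fintype.card F = q ^ 2) (P : GL (Fin n) F) :
    gramP P q = (P : Matrix (Fin n) (Fin n) F)ᵀ * (conj hF).toRingHom.mapMatrix (P : Matrix (Fin n) (Fin n) F) := by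
  ext i j
  rw [gramP, Matrix.mul_apply, herm_def]
  refine Finset.sum_congr rfl fun l _ => ?_
  rw [Matrix.mulVec_single_one, Matrix.mulVec_single_one]
  rfl

theorem isUnit_det_gramP (hF : Fintype.card F = q ^ 2) (P : GL (Fin n) F) : IsUnit (gramP P q).det := by
  rw [gramP_eq hF, Matrix.det_mul, Matrix.det_transpose, ← RingHom.map_det]
  have h1 : IsUnit ((P : Matrix (Fin n) (Fin n) F).det) := (Matrix.isUnit_iff_isUnit_det _).1 P.isUnit
  exact h1.mul (h1.map _)

theorem gramP_isom (hF : Fintype.card F = q ^ 2) {P g : GL (Fin n) F} (hg : g ∈ Cfsg.GU n F q) {F₀ : Subfield F}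
    (hF₀ : Nat.card F₀ = q)
    (hB : ∀ i j, ((P⁻¹ * g * P : GL (Fin n) F) : Matrix (Fin n) (Fin n) F) i j ∈ F₀) :
    ((P⁻¹ * g * P : GL (Fin n) F) : Matrix (Fin n) (Fin n) F)ᵀ * gramP P q *
      ((P⁻¹ * g * P : GL (Fin n) F) : Matrix (Fin n) (Fin n) F) = gramP P q := by
  have hcj : (conj hF).toRingHom.mapMatrix ((P⁻¹ * g * P : GL (Fin n) F) : Matrix (Fin n) (Fin n) F) =
      ((P⁻¹ * g * P : GL (Fin n) F) : Matrix (Fin n) (Fin n) F) := by
    ext i j
    show (((P⁻¹ * g * P : GL (Fin n) F) : Matrix (Fin n) (Fin n) F) i j) ^ q = _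
    exact pow_q_of_mem hF₀ (hB i j)
  have hPB : (P : Matrix (Fin n) (Fin n) F) * ((P⁻¹ * g * P : GL (Fin n) F) : Matrix (Fin n) (Fin n) F) =
      (g : Matrix (Fin n) (Fin n) F) * (P : Matrix (Fin n) (Fin n) F) := by
    rw [← Units.val_mul, ← Units.val_mul]
    congr 1
    group
  have hgg : (g : Matrix (Fin n) (Fin n) F)ᵀ * (conj hF).toRingHom.mapMatrix (g : Matrix (Fin n) (Fin n) F) = 1 := by
    rw [← gramP_eq hF]
    ext i j
    rw [gramP, H918.mem_GU.1 hg, herm_single_left, one_mul, Matrix.one_apply]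
    by_cases hij : i = j
    · subst hij
      rw [Pi.single_eq_same, one_pow, if_pos rfl]
    · rw [Pi.single_eq_of_ne hij, zero_pow_q hF, if_neg hij]
  set B : Matrix (Fin n) (Fin n) F := ((P⁻¹ * g * P : GL (Fin n) F) : Matrix (Fin n) (Fin n) F) with hBdef
  set σ := (conj hF).toRingHom.mapMatrix (m := Fin n) with hσ
  calc Bᵀ * gramP P q * B = Bᵀ * ((P : Matrix (Fin n) (Fin n) F)ᵀ * σ (P : Matrix (Fin n) (Fin n) F)) * σ B := by
        rw [gramP_eq hF, hcj]
    _ = ((P : Matrix (Fin n) (Fin n) F) * B)ᵀ * σ ((P : Matrix (Fin n) (Fin n) F) * B) := by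
        rw [Matrix.transpose_mul, map_mul]; simp only [mul_assoc]
    _ = (P : Matrix (Fin n) (Fin n) F)ᵀ * ((g : Matrix (Fin n) (Fin n) F)ᵀ * σ (g : Matrix (Fin n) (Fin n) F)) *
        σ (P : Matrix (Fin n) (Fin n) F) := by
        rw [hPB, Matrix.transpose_mul, map_mul]; simp only [mul_assoc]
    _ = gramP P q := by rw [hgg, mul_one, gramP_eq hF]

/-- **(C5), orthogonal groups.** -/
theorem kill_sub_orth (hF : Fintype.card F = q ^ 2) (h2 : (2 : F) ≠ 0) (hn : 3 ≤ n) {F₀ : Subfield F} {P : GL (Fin n) F}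
    (hc : Fintype.card F = Nat.card F₀ ^ 2) (hP : IsFormRationalStructure (hermForm n F q) F₀ 1 P)
    (h : CovX n F q (subfieldSubgroup F₀ P ⊓ Cfsg.GU n F q)) : False := by
  have hF₀ : Nat.card F₀ = q := by
    rw [hF] at hc
    exact (Nat.pow_left_injective two_ne_zero hc).symm
  obtain ⟨g, hg, hgt⟩ := h.exists_isTv hF hn
  obtain ⟨u, w, hu, hw, hwu, hguw⟩ := hgt.conj P⁻¹
  rw [inv_inv] at hguw
  have hg2 : ((g : Matrix (Fin n) (Fin n) F) - 1) ^ 2 = 0 := by
    obtain ⟨u', w', -, -, hwu', hg'⟩ := hgt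
    rw [hg', add_sub_cancel_left, sq, Matrix.vecMulVec_mul_vecMulVec, hwu', zero_smul, Matrix.vecMulVec_zero]
  have hB := mem_subfield_of_unip (by omega) hg.1 hg2
  have hiso := gramP_isom hF hg.2 hF₀ hB
  have hsymm : (gramP P q)ᵀ = (1 : F) • gramP P q := by
    rw [one_smul]
    ext i j
    rw [Matrix.transpose_apply]
    have h1 : gramP P q i j ∈ F₀ := by
      have h3 := hP (Pi.single i 1) (Pi.single j 1) (fun l => by
        rw [Pi.single_apply]; split_ifs; exacts [F₀.one_mem, F₀.zero_mem]) (fun l => by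
        rw [Pi.single_apply]; split_ifs; exacts [F₀.one_mem, F₀.zero_mem])
      rw [one_mul] at h3
      exact h3
    have h3 : (gramP P q i j) ^ q = gramP P q i j := pow_q_of_mem hF₀ h1
    rw [← h3]
    exact herm_swap hF _ _
  refine not_form h2 (isUnit_det_gramP hF P) hiso (j := 1) ?_ ?_ hsymm (by ring)
  · rw [hguw, add_sub_cancel_left, sq, Matrix.vecMulVec_mul_vecMulVec, hwu, zero_smul, Matrix.vecMulVec_zero]
  · rw [hguw, add_sub_cancel_left, pow_one]
    exact rank_vecMulVec_eq hu hw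

/-- **(C5), symplectic groups.** -/
theorem kill_sub_symp (hF : Fintype.card F = q ^ 2) (h2 : (2 : F) ≠ 0) (hn : 3 ≤ n) {F₀ : Subfield F} {P : GL (Fin n) F}
    (hc : Fintype.card F = Nat.card F₀ ^ 2)
    (hP : ∀ u : Fin n → F, (∀ i, u i ∈ F₀) →
      hermForm n F q ((P : Matrix (Fin n) (Fin n) F) *ᵥ u) ((P : Matrix (Fin n) (Fin n) F) *ᵥ u) = 0)
    (h : CovX n F q (subfieldSubgroup F₀ P ⊓ Cfsg.GU n F q)) : False := by
  have hF₀ : Nat.card F₀ = q := by
    rw [hF] at hc
    exact (Nat.pow_left_injective two_ne_zero hc).symm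
  obtain ⟨g, hg, h0, h1⟩ := h.exists_unip hF h2 (k := 3) (by decide) le_rfl hn
  have hB := mem_subfield_of_unip (by omega) hg.1 h0
  have hiso := gramP_isom hF hg.2 hF₀ hB
  have hsingle : ∀ i l : Fin n, (Pi.single i 1 : Fin n → F) l ∈ F₀ := by
    intro i l
    rw [Pi.single_apply]
    split_ifs
    exacts [F₀.one_mem, F₀.zero_mem]
  have hskew : (gramP P q)ᵀ = (-1 : F) • gramP P q := by
    rw [neg_one_smul]
    ext i j
    rw [Matrix.transpose_apply, Matrix.neg_apply]
    have h3 := hP (Pi.single i 1 + Pi.single j 1) (fun l => F₀.add_mem (hsingle i l) (hsingle j l))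
    have h4 := hP (Pi.single i 1) (hsingle i)
    have h5 := hP (Pi.single j 1) (hsingle j)
    rw [Matrix.mulVec_add, herm_add_left, herm_add_right hF, herm_add_right hF, h4, h5] at h3
    show gramP P q j i = -gramP P q i j
    unfold gramP
    linear_combination h3
  have hconj := conj_unip P⁻¹ g h0 h1
  rw [inv_inv] at hconj
  exact not_form h2 (isUnit_det_gramP hF P) hiso (j := 2) hconj.1 hconj.2 hskew (by norm_num)

end Subfield

end Cfsg.Agent.H260.OddM
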