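import Cfsg.Agent.H251.GeoUMain
import Cfsg.Agent.H453.OddM.Defs

/-!
# TEAM ODDM (S4785), GEO-U: from `Cov (PSU n F q) M` to members of the geometric classes

`CovX n F q X` : `X ≤ GL_n(F)` meets every real class of `SU_n(q)`, contains a conjugate of every `2`-subgroup of
`SU_n(q)`, and `v ∣ |X|` if `PSU_n(q)` has a real element of order `v`.
-/

set_option autoImplicit false
set_option linter.unusedSectionVars false

namespace Cfsg.Agent.H260.OddM

open Cfsg Cfsg.Geo Cfsg.Agent.H453.OddM Cfsg.Agent.H251.GeoU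
open scoped Matrix MatrixGroups

variable {F : Type*} [Field F] [Fintype F] {n q : ℕ}

structure CovX (n : ℕ) (F : Type*) [Field F] [Fintype F] (q : ℕ) (X : Subgroup (GL (Fin n) F)) : Prop where
  real : ∀ x : SU n F q, IsReal x → ∃ A : SU n F q, H918.suHom n F q (A * x * A⁻¹) ∈ X
  two : ∀ Q : Subgroup (SU n F q), IsPGroup 2 Q → ∃ A : SU n F q, ∀ x ∈ Q, H918.suHom n F q (A * x * A⁻¹) ∈ X
  dvd : ∀ v, RealP (PSU n F q) v → v ∣ Nat.card X

theorem mem_pre {M : Subgroup (PSU n F q)} {x : SU n F q}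
    (hx : QuotientGroup.mk' (Subgroup.center (SU n F q)) x ∈ M) : H918.suHom n F q x ∈ pre M :=
  ⟨x, hx, rfl⟩

theorem covX_of_cov {M : Subgroup (PSU n F q)} (h : Cov (PSU n F q) M) {X : Subgroup (GL (Fin n) F)}
    (hX : pre M ≤ X) : CovX n F q X where
  real x hx := by
    obtain ⟨g, hg⟩ := h.2 _ (hx.map (QuotientGroup.mk' (Subgroup.center (SU n F q))))
    obtain ⟨A, rfl⟩ := QuotientGroup.mk'_surjective _ g
    refine ⟨A, hX (mem_pre ?_)⟩
    rw [map_mul, map_mul, map_inv]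
    exact hg
  two Q hQ := by
    have h1 : IsPGroup 2 (Q.map (QuotientGroup.mk' (Subgroup.center (SU n F q)))) := hQ.map _
    obtain ⟨g, hg⟩ := Cov.two_group (T := PSU n F q) h.1 h1
    obtain ⟨A, rfl⟩ := QuotientGroup.mk'_surjective _ g
    refine ⟨A, fun x hx => hX (mem_pre ?_)⟩
    rw [map_mul, map_mul, map_inv]
    exact hg _ ⟨x, hx, rfl⟩
  dvd v hv := by
    exact ((h.dvd hv).trans (card_dvd_pre M)).trans (Subgroup.card_dvd_of_le hX)

end Cfsg.Agent.H260.OddM
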