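import Cfsg.Agent.H260.OddM.GeoUC

/-!
# TEAM ODDM (S4785), GEO-U: a subgroup of `PSU_n(q)`, `q` odd, `n ≥ 4`, which has odd index and meets every real
class is in the residual class
-/

set_option autoImplicit false
set_option linter.unusedSectionVars false

namespace Cfsg.Agent.H260.OddM

open Cfsg Cfsg.Geo Module Cfsg.Agent.H453.OddM Cfsg.Agent.H251.GeoU Cfsg.Agent.H251.GeoCard Cfsg.Agent.H951
open Cfsg.Agent.ClassicalGeometry.UnitTransv Cfsg.Agent.LieClassical.HermBasic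
open scoped Matrix MatrixGroups

/-! ### Arithmetic -/

/-- a primitive prime for the even number `m`: `-q` has order `m` -/
theorem exists_prime_even {p f m : ℕ} (hp : p.Prime) (hp2 : p ≠ 2) (hf : 1 ≤ f) (hm : Even m) (hm4 : 4 ≤ m) :
    ∃ s e : ℕ, s.Prime ∧ (∀ k, s ∣ p ^ k - 1 ↔ e * f ∣ k) ∧ ((e = m ∧ 4 ∣ m) ∨ (m = 2 * e ∧ Odd e ∧ 3 ≤ e)) ∧
      orderOf (-((p ^ f : ℕ) : ZMod s)) = m ∧ s ≠ 2 := by
  obtain ⟨e, he, he3⟩ : ∃ e, ((e = m ∧ 4 ∣ m) ∨ (m = 2 * e ∧ Odd e ∧ 3 ≤ e)) ∧ 3 ≤ e := by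
    obtain ⟨c, hc⟩ := hm
    rcases Nat.even_or_odd c with ⟨d, hd⟩ | h
    · exact ⟨m, Or.inl ⟨rfl, ⟨d, by omega⟩⟩, by omega⟩
    · obtain ⟨d, hd⟩ := h
      exact ⟨c, Or.inr ⟨by omega, ⟨d, hd⟩, by omega⟩, by omega⟩
  have hef : 3 ≤ e * f := by nlinarith
  obtain ⟨s, hs, hiff, hs1, hsp⟩ := Lib.Zsigmondy.exists_primitive (a := p) (n := e * f) hp.two_le (by omega)
    (by omega) (fun h => hp2 h.1)
  have := Fact.mk hs
  have hq : ∀ j, ((p ^ f : ℕ) : ZMod s) ^ j = 1 ↔ e ∣ j := by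
    intro j
    rw [Nat.cast_pow, ← pow_mul, ← orderOf_dvd_iff_pow_eq_one, ← Lib.Zsigmondy.dvd_pow_sub_one_iff hp.one_lt.le, hiff,
      mul_comm e f]
    exact Nat.mul_dvd_mul_iff_left (by omega)
  have hs2 : s ≠ 2 := by
    rintro rfl
    have h1 : (2 : ℕ) ∣ p ^ 1 - 1 := by
      rw [pow_one]
      obtain ⟨c, hc⟩ := hp.odd_of_ne_two hp2
      exact ⟨c, by omega⟩
    have h3 := (hiff 1).1 h1
    have := Nat.le_of_dvd one_pos h3
    omega
  refine ⟨s, e, hs, hiff, he, ?_, hs2⟩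
  set Q := ((p ^ f : ℕ) : ZMod s) with hQ
  have hne : (-1 : ZMod s) ≠ 1 := by
    haveI : Fact (2 < s) := ⟨lt_of_le_of_ne hs.two_le (Ne.symm hs2)⟩
    exact ZMod.neg_one_ne_one
  set d := orderOf (-Q) with hd
  have hdm : d ∣ m := by
    rw [hd, orderOf_dvd_iff_pow_eq_one, hm.neg_pow, hq]
    rcases he with ⟨h, -⟩ | ⟨h, -⟩
    · rw [h]
    · exact ⟨2, by omega⟩
  have h2d : e ∣ 2 * d := by
    rw [← hq, pow_mul, ← neg_sq, ← pow_mul, mul_comm 2 d, pow_mul, hd, pow_orderOf_eq_one, one_pow]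
  have hdpow : (-Q) ^ d = 1 := pow_orderOf_eq_one _
  rcases he with ⟨h, h4⟩ | ⟨h, ho, -⟩
  · subst h
    obtain ⟨c, hc⟩ := hdm
    obtain ⟨c', hc'⟩ := h2d
    have hd0 : 0 < d := by
      rcases Nat.eq_zero_or_pos d with h0 | h0
      · rw [h0, zero_mul] at hc; omega
      · exact h0
    have hcc : c * c' = 2 := by
      have h5 : d * (c * c') = d * 2 := by
        rw [← mul_assoc, ← hc, ← hc', mul_comm]
      exact Nat.eq_of_mul_eq_mul_left hd0 h5
    have hc2 : c ∣ 2 := ⟨c', hcc.symm⟩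
    rcases (Nat.dvd_prime Nat.prime_two).1 hc2 with h5 | h5
    · rw [h5, mul_one] at hc; exact hc.symm
    · exfalso
      rw [h5] at hc
      obtain ⟨b, hb⟩ := h4
      have hdev : Even d := ⟨b, by omega⟩
      rw [hdev.neg_pow, hq] at hdpow
      have := Nat.le_of_dvd hd0 hdpow
      omega
  · have hed : e ∣ d := (Nat.Coprime.dvd_mul_left ((Nat.coprime_two_right).2 ho)).1 h2d
    obtain ⟨c, hc⟩ := hed
    have he0 : 0 < e := by omega
    have hd0 : 0 < d := Nat.pos_of_dvd_of_pos hdm (by omega)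
    have hcm : c ∣ 2 := by
      obtain ⟨b, hb⟩ := hdm
      refine ⟨b, ?_⟩
      have h5 : e * 2 = e * (c * b) := by rw [← mul_assoc, ← hc, ← hb, h, mul_comm]
      exact Nat.eq_of_mul_eq_mul_left he0 h5
    rcases (Nat.dvd_prime Nat.prime_two).1 hcm with h5 | h5
    · exfalso
      rw [h5, mul_one] at hc
      rw [hc, ho.neg_pow, (hq e).2 dvd_rfl] at hdpow
      exact hne hdpow
    · rw [hc, h5, h, mul_comm]

theorem dvd_of_ord_neg {q s m : ℕ} (hq : 1 ≤ q) (hm : Even m) (hs : s.Prime) (h : orderOf (-(q : ZMod s)) = m) :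
    s ∣ q ^ (m / 2) - 1 ∨ s ∣ q ^ (m / 2) + 1 := by
  obtain ⟨c, hc⟩ := hm
  have hmc : m / 2 = c := by omega
  have h1 : (-(q : ZMod s)) ^ m = 1 := by rw [← h, pow_orderOf_eq_one]
  rw [Even.neg_pow ⟨c, hc⟩] at h1
  have h3 : s ∣ q ^ m - 1 := by
    rw [← ZMod.natCast_eq_zero_iff, Nat.cast_sub (Nat.one_le_pow _ _ hq), Nat.cast_pow, h1, Nat.cast_one, sub_self]
  have h4 : q ^ m - 1 = (q ^ c - 1) * (q ^ c + 1) := by
    rw [hc, pow_add]
    obtain ⟨y, hy⟩ := Nat.exists_eq_add_of_le (Nat.one_le_pow c q hq)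
    rw [hy, Nat.add_sub_cancel_left]
    apply Nat.sub_eq_of_eq_add
    ring
  rw [h4] at h3
  rw [hmc]
  exact hs.dvd_mul.1 h3

variable {F : Type*} [Field F] [Fintype F] {n q : ℕ}

/-- **(C5), odd degree.** -/
theorem kill_sub_odd (hF : Fintype.card F = q ^ 2) {p f m s e : ℕ} (hp : p.Prime) (hq : q = p ^ f) (hf : 1 ≤ f)
    (hs : s.Prime) (hiff : ∀ k, s ∣ p ^ k - 1 ↔ e * f ∣ k) (he : (e = m ∧ 4 ∣ m) ∨ (m = 2 * e ∧ Odd e ∧ 3 ≤ e))
    (hm4 : 4 ≤ m) (hord : orderOf (-(q : ZMod s)) = m) (hnm : n ≤ m + 1) {F₀ : Subfield F} {r : ℕ}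
    (hr : r.Prime) (hro : Odd r) (hc : Fintype.card F = Nat.card F₀ ^ r) {P : GL (Fin n) F}
    (h : s ∣ Nat.card (subfieldSubgroup F₀ P)) : False := by
  have hsq := not_dvd_of_ord hs hord (by omega)
  have hr3 : 3 ≤ r := by
    have := hr.two_le
    obtain ⟨k, hk⟩ := hro
    omega
  have he3 : 3 ≤ e := by
    rcases he with ⟨h1, h2⟩ | ⟨-, -, h1⟩
    · omega
    · exact h1
  rcases subfield hs (not_dvd_card hF hs hsq) h with h1 | h1
  · rw [nat_card_eq hF, hq, ← pow_mul, hiff] at h1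
    have h3 : f * e ∣ f * 2 := by rwa [mul_comm e f] at h1
    have h4 := Nat.le_of_dvd two_pos (Nat.dvd_of_mul_dvd_mul_left hf h3)
    omega
  · rw [Fintype.card_fin] at h1
    obtain ⟨i, hi1, hi2, hi3⟩ := h1
    rw [hF, hq, ← pow_mul] at hc
    obtain ⟨a, -, ha⟩ := (Nat.dvd_prime_pow hp).1 (show Nat.card F₀ ∣ p ^ (f * 2) by
      rw [hc]; exact dvd_pow_self _ hr.ne_zero)
    rw [ha, ← pow_mul] at hc hi3
    have har : f * 2 = a * r := Nat.pow_right_injective hp.two_le hc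
    have h4 := (hiff _).1 hi3
    have h5 : f * (e * r) ∣ f * (2 * i) := by
      have h6 : e * f * r ∣ a * i * r := Nat.mul_dvd_mul_right h4 r
      have h7 : a * i * r = f * (2 * i) := by
        calc a * i * r = (a * r) * i := by ring
          _ = f * (2 * i) := by rw [← har]; ring
      rw [h7] at h6
      have h8 : e * f * r = f * (e * r) := by ring
      rwa [h8] at h6
    have h6 : e * r ∣ 2 * i := Nat.dvd_of_mul_dvd_mul_left hf h5
    rcases he with ⟨h7, -⟩ | ⟨h7, ho, -⟩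
    · have h8 := Nat.le_of_dvd (by omega) h6
      have h9 : e * 3 ≤ e * r := Nat.mul_le_mul_left _ hr3
      omega
    · have h8 : e * r ∣ i := (Nat.Coprime.dvd_mul_left ((Nat.coprime_two_right).2 (ho.mul hro))).1 h6
      have h9 := Nat.le_of_dvd (by omega) h8
      have h10 : e * 3 ≤ e * r := Nat.mul_le_mul_left _ hr3
      omega

/-- the reality hypothesis (helper660: `H660.OddM.realP_psu`) -/
def RealH (n : ℕ) (F : Type*) [Field F] (q : ℕ) : Prop :=
  ∀ v k : ℕ, Odd v → 1 ≤ k → 2 * k ≤ n → (v ∣ q ^ k - 1 ∨ v ∣ q ^ k + 1) → RealP (PSU n F q) v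

/-- **no geometric member meets all real classes and has odd index** -/
theorem not_covX (hF : Fintype.card F = q ^ 2) (h2 : (2 : F) ≠ 0) (hn : 4 ≤ n) (hreal : RealH n F q)
    {X : Subgroup (GL (Fin n) F)} (hX : InUnitaryClass n F q X) : ¬ CovX n F q X := by
  intro h
  obtain ⟨p, f, hp, hf, hq, hpF⟩ := exists_prime_power hF
  have hp2 : p ≠ 2 := by
    rintro rfl
    exact h2 hpF
  obtain ⟨m, hm, hmn, hnm⟩ : ∃ m, Even m ∧ m ≤ n ∧ n ≤ m + 1 := by
    rcases Nat.even_or_odd n with h1 | ⟨k, hk⟩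
    · exact ⟨n, h1, le_rfl, by omega⟩
    · exact ⟨n - 1, ⟨k, by omega⟩, by omega, by omega⟩
  have hm4 : 4 ≤ m := by
    obtain ⟨k, hk⟩ := hm
    omega
  obtain ⟨s, e, hs, hiff, he, hord, hs2⟩ := exists_prime_even hp hp2 hf hm hm4
  rw [← hq] at hord
  have hq1 : 1 ≤ q := q_pos hF
  have hsX : s ∣ Nat.card X := by
    refine h.dvd s (hreal s (m / 2) (hs.odd_of_ne_two hs2) (by omega) (by omega) ?_)
    exact dvd_of_ord_neg hq1 hm hs hord
  rcases hX with hX | hX | hX | hX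
  · rcases hX with hX | hX | hX | hX | hX | hX | hX | hX
    · obtain ⟨W, hW0, hW, rfl⟩ := hX
      exact kill_ts hF h2 (by omega) hW0 hW h
    · obtain ⟨W, hW0, hW, hW2, rfl⟩ := hX
      rcases Nat.even_or_odd n with hev | hodd
      · have hmn' : m = n := by
          obtain ⟨a, ha⟩ := hev
          obtain ⟨b, hb⟩ := hm
          omega
        rw [hmn'] at hord
        exact kill_nd_even hF hs hord hev hn hW0 hW2 hsX
      · exact kill_nd_odd hF h2 (by omega) hodd hW0 hW hW2 h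
    · obtain ⟨t, k, D, hD, rfl⟩ := hX
      have htk : t * k = n := by rw [H918.decomp_card hD.decomp, Fintype.card_fin]
      have hk := hD.decomp.pos
      have ht := hD.decomp.two_le
      by_cases hk1 : k = 1
      · subst hk1
        exact kill_frame hF h2 (by omega) hD h
      by_cases ht2 : t = 2
      · subst ht2
        exact kill_decomp_two hF h2 htk.symm hn hD.decomp h
      · exact kill_decomp_big hF hs hord hm hn hnm hD.decomp (by omega) (by omega) (dvd_left hsX)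
    · obtain ⟨k, D, hk, hD, -, rfl⟩ := hX
      exact kill_decomp_two hF h2 hk.symm hn hD h
    · obtain ⟨F₀, r, P, hr, hro, hc, -, rfl⟩ := hX
      exact kill_sub_odd hF hp hq hf hs hiff he hm4 hord hnm hr hro hc (dvd_left hsX)
    · obtain ⟨F₀, P, -, hc, hP, rfl⟩ := hX
      exact kill_sub_orth hF h2 (by omega) hc hP h
    · obtain ⟨F₀, P, ζ, -, hc, -, -, -, hP, rfl⟩ := hX
      exact kill_sub_symp hF h2 (by omega) hc hP h
    · obtain ⟨r, R, p', e', k, hR, habs, -, -, -, hc, rfl⟩ := hX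
      have ht : H920.IsType r k R := by
        rcases hc with ⟨h1, h2, -, h3⟩ | ⟨h1, -, h2, h3⟩
        · exact Or.inl ⟨h1, h2, h3⟩
        · exact Or.inr ⟨h1, h2, h3⟩
      exact kill_sympU hF hn hR habs ht h
  · obtain ⟨r, K, hr, hro, hK, -, rfl⟩ := hX
    exact kill_field hF (by omega) hr hK h
  · obtain ⟨n₁, n₂, e, P, f₁, f₂, h2, hlt, -, -, -, rfl⟩ := hX
    exact kill_tensorU hF (by omega) e P h2 hlt h
  · obtain ⟨k, t, e, P, f₁, hk, ht, -, -, -, rfl⟩ := hX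
    exact kill_wreathU hF (by omega) e P hk ht h

/-- **GEO-U.** -/
theorem geoU_cov (hF : Fintype.card F = q ^ 2) (h2 : (2 : F) ≠ 0) (hn : 4 ≤ n) (hreal : RealH n F q)
    {M : Subgroup (PSU n F q)} (hM : M ≠ ⊤) (hcov : Cov (PSU n F q) M) : InUnitaryResidualClass (pre M) := by
  rcases S5663.result (F := F) n q hF (by omega) (by omega) (pre M) (pre_le M) (pre_proper M hM) with
    ⟨X, hX, hle⟩ | h
  · exact absurd (covX_of_cov hcov hle) (not_covX hF h2 hn hreal hX)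
  · exact h

end Cfsg.Agent.H260.OddM
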